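import Cfsg.Agent.S1694
import Cfsg.Agent.S1679
import Cfsg.Agent.Lib.Compute.SchurLie.GTwoFour
import Cfsg.Agent.Lib.CosetTable.SuzCover5346.Cover
import Cfsg.Agent.Lib.Schur.Cover

/-!
In every central extension of Suz the kernel meets the derived group in at most six elements.

The multiplier of the subgroup on `a, ..., f` has order two; killing it gives exact lifts of that
subgroup, and a lift of `g` braiding with that of `b`. An enumeration with the remaining relators
made central then gives 5346 cosets, three over each of the 1782.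
-/

set_option autoImplicit false
set_option maxRecDepth 20000

namespace Cfsg.Agent.Lib.SuzMult

open Cfsg Cfsg.Agent.Lib.CosetTable
open scoped commutatorElement

/-- The relators that are only central in an extension. -/
def centralWords : List (List ℕ) :=
  [[0, 6, 0, 6], [2, 6, 2, 6], [3, 6, 3, 6], [4, 6, 4, 6], [0, 6, 5, 6, 5],
   [5, 6, 5, 6, 5, 6, 5, 6], [1, 5, 6, 1, 5, 6, 1, 5, 6, 1, 5, 6, 1, 5, 6]]

theorem cover_rels : SuzCover5346.cert.rels = S1679.presH.relWords ++ [[6, 6], [1, 6, 1, 6, 1, 6]] ++
    centralWords.flatMap (fun z => (List.range 7).map fun x => z ++ [x] ++ z.reverse ++ [x]) := by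
  decide +kernel

theorem central_rels :
    allL (fun w => Suz1782.cert.rels.contains w) (centralWords ++ [[1, 6, 1, 6, 1, 6]]) = true := by
  decide +kernel

theorem perfect_G24 : commutator S1679.PH = ⊤ := by
  haveI := S1679.simple_PH.1
  rcases Subgroup.Normal.eq_bot_or_eq_top (H := commutator S1679.PH) inferInstance with h | h
  · exfalso
    letI : CommGroup S1679.PH :=
      { (inferInstance : Group S1679.PH) with
        mul_comm := fun a b => commutatorElement_eq_one_iff_mul_comm.mp
          (by
            rw [← Subgroup.mem_bot, ← h]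
            exact Subgroup.commutator_mem_commutator (Subgroup.mem_top a) (Subgroup.mem_top b)) }
    haveI : Finite S1679.PH := S1679.order_le.1
    have := IsSimpleGroup.prime_card (α := S1679.PH)
    rw [S1679.simple_PH.2] at this
    exact absurd (this.eq_one_or_self_of_dvd 2 (by norm_num)) (by norm_num)
  · exact h

theorem exists_iota : ∃ ι : S1679.PH →* Spor.Suz,
    ∀ n, n < 6 → ι (S1679.presH.gens S1679.extraH n) = S1694.gn n := by
  obtain ⟨π, hπ⟩ := Pres.exists_hom (extra := S1679.extraH) S1679.presH_good rfl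
    (fun n => S1694.gn n)
    (fun n _ => Pres.gens_invol S1680.pres_good _)
    (by decide +kernel)
    (by
      intro w hw
      have h : allL (fun w => Suz1782.cert.rels.contains w) S1679.presH.relWords = true := by
        decide +kernel
      exact S1694.model_act.rel _ (List.contains_iff_mem.mp (allL_spec h w hw)))
  exact ⟨π, fun n hn => hπ n hn⟩

theorem map_eval_hom {G H : Type*} [Group G] [Group H] (φ : G →* H) (f : ℕ → G) :
    ∀ w : List ℕ, φ (eval f w) = eval (fun n => φ (f n)) w
  | [] => by simp [eval]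
  | a :: w => by simp [eval, map_eval_hom φ f w]

theorem eval_congr' {G : Type*} [Group G] {f g : ℕ → G} :
    ∀ w : List ℕ, (∀ a ∈ w, f a = g a) → eval f w = eval g w
  | [], _ => rfl
  | a :: w, h => by
    simp only [eval, h a (by simp), eval_congr' w fun b hb => h b (List.mem_cons_of_mem _ hb)]

theorem card_from_table {G : Type} [Group G] {f : ℕ → G} (M : Model f SuzCover5346.cert)
    (h : OrderLE f SuzCover5346.cert.subs 251596800) :
    Finite G ∧ Nat.card G ≤ 5346 * 251596800 := by
  have h' := SuzCover5346.cover.finite_card_le M h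
  rwa [show SuzCover5346.tab.n = 5346 from rfl] at h'

/-- With exact lifts of the subgroup, the kernel meets the derived group in at most three elements. -/
theorem lifted_bound {E : Type} [Group E] {π : E →* Spor.Suz} (hs : Function.Surjective π)
    (hc : π.ker ≤ Subgroup.center E) (s : S1679.PH →* E)
    (hsπ : ∀ n, n < 6 → π (s (S1679.presH.gens S1679.extraH n)) = S1694.gn n) :
    Finite (π.ker ⊓ commutator E : Subgroup E) ∧ Nat.card (π.ker ⊓ commutator E : Subgroup E) ≤ 3 := by
  have hcen : ∀ {k : E}, π k = 1 → ∀ g, Commute k g := fun hk g =>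
    (Subgroup.mem_center_iff.1 (hc hk) g).symm
  have hgn : ∀ n, S1694.gn n * S1694.gn n = 1 := Pres.gens_invol S1680.pres_good
  set gH := S1679.presH.gens S1679.extraH with hgH
  set B := s (gH 1) with hBdef
  obtain ⟨G0, hG0⟩ := hs (S1694.gn 6)
  have hB : π B = S1694.gn 1 := hsπ 1 (by norm_num)
  have hB2 : B * B = 1 := by rw [← map_mul, Pres.gens_invol S1679.presH_good, map_one]
  have hrels := central_rels
  have hbr : S1694.gn 1 * S1694.gn 6 * S1694.gn 1 = S1694.gn 6 * S1694.gn 1 * S1694.gn 6 := by
    have h := S1694.model_act.rel [1, 6, 1, 6, 1, 6]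
      (List.contains_iff_mem.mp (allL_spec hrels _ (by simp)))
    simp only [eval, one_mul] at h
    have hinv : ∀ n, (S1694.gn n)⁻¹ = S1694.gn n := fun n => inv_eq_of_mul_eq_one_right (hgn n)
    have e : S1694.gn 6 * S1694.gn 1 * S1694.gn 6 * (S1694.gn 1 * S1694.gn 6 * S1694.gn 1) = 1 := by
      rw [← h]; simp only [mul_assoc]
    have := eq_inv_of_mul_eq_one_right e
    rw [this, mul_inv_rev, mul_inv_rev, hinv, hinv, mul_assoc]
  set κ := B * G0 * B * (G0 * B * G0)⁻¹ with hκdef
  have hκ : π κ = 1 := by
    simp only [hκdef, map_mul, map_inv, hG0, hB, hbr, mul_inv_cancel]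
  have hκc := hcen hκ
  set G := κ * G0 with hGdef
  have hG : π G = S1694.gn 6 := by rw [hGdef, map_mul, hκ, one_mul, hG0]
  have hbraid : B * G * B = G * B * G := by
    have h0 : B * G0 * B = κ * (G0 * B * G0) := by rw [hκdef, inv_mul_cancel_right]
    calc B * G * B = κ * (B * G0 * B) := by
          rw [hGdef, ← mul_assoc B, ← (hκc B).eq]; simp [mul_assoc]
      _ = κ * (κ * (G0 * B * G0)) := by rw [h0]
      _ = κ * G0 * (κ * (B * G0)) := by
          rw [← mul_assoc (κ * G0) κ, mul_assoc κ G0 κ, ← (hκc G0).eq]; simp [mul_assoc]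
      _ = G * B * G := by
          rw [hGdef, ← mul_assoc κ B, (hκc B).eq]; simp [mul_assoc]
  have hG2 : G * G = 1 := by
    have e : (B * G) * B * (B * G)⁻¹ = G := by
      rw [mul_inv_eq_iff_eq_mul, hbraid, mul_assoc]
    calc G * G = ((B * G) * B * (B * G)⁻¹) * ((B * G) * B * (B * G)⁻¹) := by rw [e]
      _ = (B * G) * (B * B) * (B * G)⁻¹ := by group
      _ = 1 := by rw [hB2, mul_one, mul_inv_cancel]
  let f : ℕ → E := fun n => if n < 6 then s (gH n) else G
  have hf2 : ∀ n, f n * f n = 1 := fun n => by
    by_cases hn : n < 6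
    · simp only [f, if_pos hn, ← map_mul, hgH, Pres.gens_invol S1679.presH_good, map_one]
    · simpa only [f, if_neg hn] using hG2
  have hfπ : ∀ n, n < 7 → π (f n) = S1694.gn n := fun n hn => by
    by_cases h6 : n < 6
    · simpa only [f, if_pos h6] using hsπ n h6
    · obtain rfl : n = 6 := by omega
      simpa only [f, if_neg h6] using hG
  have hrel : ∀ w ∈ SuzCover5346.cert.rels, eval f w = 1 := by
    intro w hw
    rw [cover_rels, List.mem_append, List.mem_append] at hw
    rcases hw with (hw | hw) | hw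
    · have hlt : ∀ w ∈ S1679.presH.relWords, ∀ a ∈ w, a < 6 := by decide +kernel
      rw [eval_congr' w (g := fun n => s (gH n)) fun a ha => if_pos (hlt w hw a ha),
        ← map_eval_hom, S1679.model_H.rel w (by rw [S1679.certified.rels_eq]; exact hw), map_one]
    · have f1 : f 1 = B := if_pos (by norm_num)
      have f6 : f 6 = G := if_neg (by norm_num)
      simp only [List.mem_cons, List.not_mem_nil, or_false] at hw
      rcases hw with rfl | rfl
      · simpa [eval, f6] using hG2
      · simp only [eval, one_mul, f1, f6]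
        have e : G * B * G * (B * G * B) = 1 := by
          rw [← hbraid, show B * G * B * (B * G * B) = B * G * (B * B) * G * B by
            simp only [mul_assoc], hB2, mul_one, mul_assoc B G G, hG2, mul_one, hB2]
        simpa [mul_assoc] using e
    · obtain ⟨z, hz, hw⟩ := List.mem_flatMap.1 hw
      obtain ⟨x, -, rfl⟩ := List.mem_map.1 hw
      have hlt : ∀ z ∈ centralWords, ∀ a ∈ z, a < 7 := by decide
      have hz1 : π (eval f z) = 1 := by
        rw [map_eval_hom, eval_congr' z (g := S1694.gn) fun a ha => hfπ a (hlt z hz a ha)]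
        exact S1694.model_act.rel z
          (List.contains_iff_mem.mp (allL_spec hrels _ (List.mem_append_left _ hz)))
      simp only [eval_append, eval, one_mul, eval_reverse f z (fun a _ => hf2 a)]
      rw [← (hcen hz1 (f x)).eq, inv_mul_cancel_left, hf2]
  let W : Subgroup E := Subgroup.closure {e | ∃ n, n < 7 ∧ f n = e}
  let fW : ℕ → W := fun n => if h : n < 7 then ⟨f n, Subgroup.subset_closure ⟨n, h, rfl⟩⟩ else 1
  have hfW : ∀ n, n < 7 → (fW n : E) = f n := fun n hn => by simp [fW, hn]
  have hev : ∀ w : List ℕ, (∀ a ∈ w, a < 7) → ((eval fW w : W) : E) = eval f w := fun w hw => by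
    rw [← Subgroup.coe_subtype, map_eval_hom]
    exact eval_congr' w fun a ha => hfW a (hw a ha)
  have hwok := SuzCover5346.words_ok
  have hwlt := hwok
  simp only [Cert.wordsOK, Bool.and_eq_true, List.all_eq_true, blt_iff] at hwlt
  have hk : SuzCover5346.cert.k = 7 := rfl
  have M : Model fW SuzCover5346.cert := by
    refine ⟨hwok, fun n hn => Subtype.ext ?_, fun w hw => Subtype.ext ?_, ?_⟩
    · rw [Subgroup.coe_mul, hfW n (hk ▸ hn), hf2]; rfl
    · rw [hev w (fun a ha => hk ▸ hwlt.1 w hw a ha)]
      exact hrel w hw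
    · apply Subgroup.map_injective W.subtype_injective
      rw [MonoidHom.map_closure, ← MonoidHom.range_eq_map, Subgroup.range_subtype]
      show Subgroup.closure _ = Subgroup.closure _
      congr 1
      ext e
      constructor
      · rintro ⟨_, ⟨n, hn, rfl⟩, rfl⟩
        exact ⟨n, hk ▸ hn, (hfW n (hk ▸ hn)).symm⟩
      · rintro ⟨n, hn, rfl⟩
        exact ⟨fW n, ⟨n, hk.symm ▸ hn, rfl⟩, hfW n hn⟩
  haveI : Finite S1679.PH := S1679.order_le.1
  have hsub : OrderLE fW SuzCover5346.cert.subs 251596800 := by
    have hle : (wordSubgroup fW SuzCover5346.cert.subs).map W.subtype ≤ s.range := by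
      rw [wordSubgroup, MonoidHom.map_closure, Subgroup.closure_le]
      rintro _ ⟨_, ⟨w, hw, rfl⟩, rfl⟩
      have h6 : ∀ w ∈ SuzCover5346.cert.subs, ∀ a ∈ w, a < 6 := by decide +kernel
      refine ⟨eval gH w, ?_⟩
      rw [map_eval_hom, Subgroup.coe_subtype, hev w (fun a ha => by have := h6 w hw a ha; omega)]
      exact (eval_congr' w fun a ha => if_pos (h6 w hw a ha)).symm
    haveI : Finite s.range := Finite.of_surjective _ s.rangeRestrict_surjective
    haveI hfm : Finite ((wordSubgroup fW SuzCover5346.cert.subs).map W.subtype) :=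
      Finite.of_injective _ (Subgroup.inclusion_injective hle)
    have e := (wordSubgroup fW SuzCover5346.cert.subs).equivMapOfInjective W.subtype W.subtype_injective
    refine ⟨Finite.of_equiv _ e.symm.toEquiv, ?_⟩
    rw [Nat.card_congr e.toEquiv, ← S1679.simple_PH.2]
    exact (Nat.card_le_card_of_injective _ (Subgroup.inclusion_injective hle)).trans
      (Nat.card_le_card_of_surjective _ s.rangeRestrict_surjective)
  have hWle := card_from_table M hsub
  haveI : Finite W := hWle.1
  have hmapW : W.map π = ⊤ := by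
    rw [MonoidHom.map_closure, eq_top_iff, ← S1694.model_act.gen]
    refine Subgroup.closure_mono ?_
    rintro _ ⟨n, hn, rfl⟩
    have hn7 : n < 7 := hn
    exact ⟨f n, ⟨n, hn7, rfl⟩, hfπ n hn7⟩
  set φ := π.comp W.subtype with hφ
  have hφs : Function.Surjective φ := by
    intro g
    obtain ⟨e, he, heg⟩ : g ∈ W.map π := by rw [hmapW]; trivial
    exact ⟨⟨e, he⟩, heg⟩
  have hker : Nat.card φ.ker ≤ 3 := by
    have h1 := Subgroup.card_mul_index φ.ker
    rw [Subgroup.index_ker, MonoidHom.range_eq_top.2 hφs, Subgroup.card_top, S1694.result.2] at h1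
    have h2 := hWle.2
    omega
  have hcW : commutator E ≤ W := by
    rw [commutator_def, Subgroup.commutator_le]
    intro a _ b _
    obtain ⟨a', ha'⟩ := hφs (π a)
    obtain ⟨b', hb'⟩ := hφs (π b)
    have ha := hcen (k := a * (a' : E)⁻¹) (by
      rw [map_mul, map_inv, show π (a' : E) = π a from ha', mul_inv_cancel])
    have hb := hcen (k := b * (b' : E)⁻¹) (by
      rw [map_mul, map_inv, show π (b' : E) = π b from hb', mul_inv_cancel])
    have cl : ∀ {c : E}, (∀ g, Commute c g) → ∀ x y : E, ⁅c * x, y⁆ = ⁅x, y⁆ := fun {c} hcc x y => by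
      simp only [commutatorElement_def]
      calc c * x * y * (c * x)⁻¹ * y⁻¹ = c * (x * y * x⁻¹) * c⁻¹ * y⁻¹ := by group
        _ = x * y * x⁻¹ * y⁻¹ := by rw [(hcc (x * y * x⁻¹)).eq, mul_inv_cancel_right]
    rw [← inv_mul_cancel_right a (a' : E), ← inv_mul_cancel_right b (b' : E), cl ha,
      ← commutatorElement_inv, cl hb, commutatorElement_inv]
    exact mul_mem (mul_mem (mul_mem a'.2 b'.2) (inv_mem a'.2)) (inv_mem b'.2)
  let j : (π.ker ⊓ commutator E : Subgroup E) → φ.ker := fun e => ⟨⟨e, hcW e.2.2⟩, e.2.1⟩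
  have hj : Function.Injective j := fun a b h => by
    have := congrArg (fun q : φ.ker => ((q : W) : E)) h
    exact Subtype.ext this
  exact ⟨Finite.of_injective j hj, (Nat.card_le_card_of_injective j hj).trans hker⟩

/-- The kernel of a central extension of Suz meets the derived group in at most six elements. -/
theorem card_le_six {Y : Type} [Group Y] {τ : Y →* Spor.Suz} (hs : Function.Surjective τ)
    (hc : τ.ker ≤ Subgroup.center Y) :
    Nat.card (τ.ker ⊓ commutator Y : Subgroup Y) ≤ 6 := by
  obtain ⟨ι, hι⟩ := exists_iota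
  let P : Subgroup (S1679.PH × Y) :=
    (ι.comp (MonoidHom.fst _ Y)).eqLocus (τ.comp (MonoidHom.snd _ Y))
  let ρ : P →* S1679.PH := (MonoidHom.fst _ Y).comp P.subtype
  let σ : P →* Y := (MonoidHom.snd _ Y).comp P.subtype
  have hρs : Function.Surjective ρ := fun h => by
    obtain ⟨e, he⟩ := hs (ι h)
    exact ⟨⟨(h, e), he.symm⟩, rfl⟩
  have hστ : ∀ p : P, τ (σ p) = ι (ρ p) := fun p => (p.2 : ι p.1.1 = τ p.1.2).symm
  have hρc : ρ.ker ≤ Subgroup.center P := fun p hp => Subgroup.mem_center_iff.2 fun q =>
    Subtype.ext (Prod.ext (by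
      show q.1.1 * p.1.1 = p.1.1 * q.1.1
      rw [show p.1.1 = 1 from hp, one_mul, mul_one])
      (Subgroup.mem_center_iff.1 (hc (show τ (σ p) = 1 by
        rw [hστ, show ρ p = 1 from hp, map_one])) q.1.2))
  obtain ⟨g, hg⟩ := Schur.exists_surjection_of_hasSchurMultiplier Compute.SchurLie.schur_PH ρ hρs hρc
  haveI hKfin : Finite (ρ.ker ⊓ commutator P : Subgroup P) := Finite.of_surjective g hg
  have hKcard : Nat.card (ρ.ker ⊓ commutator P : Subgroup P) ≤ 2 :=
    (Nat.card_le_card_of_surjective g hg).trans (by simp)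
  let K2 : Subgroup Y := (ρ.ker ⊓ commutator P).map σ
  have hK2 : K2 ≤ τ.ker := by
    rintro _ ⟨p, hp, rfl⟩
    rw [MonoidHom.mem_ker, hστ, show ρ p = 1 from hp.1, map_one]
  haveI : K2.Normal := ⟨fun n hn a => by
    rw [Subgroup.mem_center_iff.1 (hc (hK2 hn)) a, mul_inv_cancel_right]; exact hn⟩
  let q := QuotientGroup.mk' K2
  let π : Y ⧸ K2 →* Spor.Suz := QuotientGroup.lift K2 τ hK2
  have hπc : π.ker ≤ Subgroup.center (Y ⧸ K2) := by
    intro a ha
    induction a using QuotientGroup.induction_on with
    | _ a =>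
      refine Subgroup.mem_center_iff.2 fun b => ?_
      induction b using QuotientGroup.induction_on with
      | _ b => rw [← QuotientGroup.mk_mul, ← QuotientGroup.mk_mul, Subgroup.mem_center_iff.1 (hc ha) b]
  -- exact lifts of the subgroup
  let ρC : commutator P →* S1679.PH := ρ.comp (commutator P).subtype
  have hρC : Function.Surjective ρC := by
    intro h
    have : h ∈ (commutator P).map ρ := by
      rw [commutator_def, Subgroup.map_commutator, Subgroup.map_top_of_surjective ρ hρs,
        ← commutator_def, perfect_G24]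
      trivial
    obtain ⟨p, hp, rfl⟩ := this
    exact ⟨⟨p, hp⟩, rfl⟩
  let ψ : commutator P →* Y ⧸ K2 := q.comp (σ.comp (commutator P).subtype)
  have hψ : ρC.ker ≤ ψ.ker := fun p hp =>
    (QuotientGroup.eq_one_iff _).2 ⟨p, ⟨hp, p.2⟩, rfl⟩
  let e := QuotientGroup.quotientKerEquivOfSurjective ρC hρC
  let s : S1679.PH →* Y ⧸ K2 := (QuotientGroup.lift ρC.ker ψ hψ).comp e.symm.toMonoidHom
  have hs' : ∀ h, π (s h) = ι h := by
    intro h
    obtain ⟨p, rfl⟩ := hρC h
    have he : e.symm (ρC p) = QuotientGroup.mk p := e.symm_apply_eq.2 rfl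
    show π ((QuotientGroup.lift ρC.ker ψ hψ) (e.symm (ρC p))) = _
    rw [he]
    exact hστ (p : P)
  obtain ⟨hfin, hcard⟩ := lifted_bound (π := π)
    (fun x => by obtain ⟨y, hy⟩ := hs x; exact ⟨q y, hy⟩) hπc s
    fun n hn => (hs' _).trans (hι n hn)
  haveI := hfin
  let M := τ.ker ⊓ commutator Y
  have hmem : ∀ m : M, q m ∈ π.ker ⊓ commutator (Y ⧸ K2) := fun m => ⟨m.2.1, by
    have h : (commutator Y).map q ≤ commutator (Y ⧸ K2) := by
      rw [commutator_def, commutator_def, Subgroup.map_commutator]
      exact Subgroup.commutator_mono le_top le_top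
    exact h ⟨m, m.2.2, rfl⟩⟩
  let χ : M →* (π.ker ⊓ commutator (Y ⧸ K2) : Subgroup (Y ⧸ K2)) :=
    (q.comp M.subtype).codRestrict _ hmem
  haveI : Finite K2 :=
    Finite.of_surjective _ (MonoidHom.subgroupMap_surjective σ (ρ.ker ⊓ commutator P))
  let i : χ.ker → K2 := fun m => ⟨((m : M) : Y),
    (QuotientGroup.eq_one_iff _).1 (congrArg Subtype.val (m.2 : χ m.1 = 1))⟩
  have hi : Function.Injective i := fun a b h => by
    have := congrArg Subtype.val h
    exact Subtype.ext (Subtype.ext this)
  haveI : Finite χ.ker := Finite.of_injective i hi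
  have h2 : Nat.card χ.ker ≤ 2 := ((Nat.card_le_card_of_injective i hi).trans
    (Nat.card_le_card_of_surjective _ (MonoidHom.subgroupMap_surjective σ (ρ.ker ⊓ commutator P)))).trans hKcard
  have h3 : Nat.card χ.range ≤ 3 := (Nat.card_le_card_of_injective _ Subtype.val_injective).trans hcard
  have h1 := Subgroup.card_mul_index χ.ker
  rw [Subgroup.index_ker] at h1
  show Nat.card M ≤ 6
  rw [← h1]
  exact Nat.mul_le_mul h2 h3

end Cfsg.Agent.Lib.SuzMult
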