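import Cfsg.Agent.Lib.SuzMult.MatCode
import Cfsg.Agent.Lib.SuzMult.CoverData
import Cfsg.Agent.S1694
import Cfsg.Prelude.Def_Spor_Suz
import Cfsg.Prelude.Def_KGroupFacts

/-!
A six-fold cover of Suz: seven matrices of degree 12 over seven elements satisfy the relations of
the presentation up to scalars.
-/

set_option autoImplicit false
set_option maxRecDepth 100000

namespace Cfsg.Agent.Lib.SuzMult

open Cfsg
open Cfsg.Agent.Lib.CosetTable (allL allL_spec)

/-- The generators. -/
abbrev SNode : Type := Spor.Suz.Gen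

/-- The number of a generator. -/
def num : SNode → ℕ
  | .a => 0 | .b => 1 | .c => 2 | .d => 3 | .e => 4 | .f => 5 | .g => 6

/-- All generators. -/
def allNodes : List SNode := [.a, .b, .c, .d, .e, .f, .g]

theorem allNodes_mem (x : SNode) : x ∈ allNodes := by cases x <;> decide

theorem num_lt (x : SNode) : num x < 7 := by cases x <;> decide

/-- The inverses are correct. -/
noncomputable def invCheck : Bool :=
  (List.range 7).all fun g =>
    mulOK (matCodes.getD g 0) (invCodes.getD g 0) oneMat &&
      mulOK (invCodes.getD g 0) (matCodes.getD g 0) oneMat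

/-- The scalars are the powers of the second. -/
noncomputable def scalCheck : Bool :=
  Nat.beq (scalMats.getD 0 0) oneMat &&
    mulOK (scalMats.getD 5 0) (scalMats.getD 1 0) oneMat &&
    mulOK (scalMats.getD 1 0) (scalMats.getD 5 0) oneMat &&
    (List.range 5).all (fun k => mulOK (scalMats.getD k 0) (scalMats.getD 1 0) (scalMats.getD (k + 1) 0)) &&
    mulOK (matCodes.getD 0 0) (matCodes.getD 1 0) pairCodes.1 &&
    mulOK (matCodes.getD 1 0) (matCodes.getD 0 0) pairCodes.2

/-- Each word has the scalar value. -/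
noncomputable def wordCheck : Bool :=
  allL (fun q => Nat.blt q.2.1 6 && chainOK matCodes q.1 q.2.2 oneMat (scalMats.getD q.2.1 0)) wordData

theorem invCheck_ok : invCheck = true := by decide +kernel

theorem scalCheck_ok : scalCheck = true := by decide +kernel

theorem wordCheck_ok : wordCheck = true := by decide +kernel

theorem toMat_one : toMat oneMat = 1 := by
  have h : ∀ i j : Fin 12, (ent oneMat i j : ZMod 7) = if i = j then 1 else 0 := by decide +kernel
  ext i j
  simp [toMat, Matrix.one_apply, h i j]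

/-- Invertible matrices. -/
abbrev GL7 : Type := Mat ˣ

theorem inv_spec (g : ℕ) (hg : g < 7) :
    toMat (matCodes.getD g 0) * toMat (invCodes.getD g 0) = 1 ∧
      toMat (invCodes.getD g 0) * toMat (matCodes.getD g 0) = 1 := by
  have h := invCheck_ok
  simp only [invCheck, List.all_eq_true, List.mem_range, Bool.and_eq_true] at h
  exact ⟨(toMat_mul (h g hg).1).trans toMat_one, (toMat_mul (h g hg).2).trans toMat_one⟩

/-- The matrix of a generator. -/
def gmat (x : SNode) : GL7 :=
  ⟨toMat (matCodes.getD (num x) 0), toMat (invCodes.getD (num x) 0), (inv_spec _ (num_lt x)).1,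
    (inv_spec _ (num_lt x)).2⟩

theorem scal_spec : toMat (scalMats.getD 1 0) * toMat (scalMats.getD 5 0) = 1 ∧
    toMat (scalMats.getD 5 0) * toMat (scalMats.getD 1 0) = 1 ∧
    (∀ k, k < 6 → toMat (scalMats.getD 1 0) ^ k = toMat (scalMats.getD k 0)) ∧
    toMat (matCodes.getD 0 0) * toMat (matCodes.getD 1 0) = toMat pairCodes.1 ∧
    toMat (matCodes.getD 1 0) * toMat (matCodes.getD 0 0) = toMat pairCodes.2 := by
  have h := scalCheck_ok
  simp only [scalCheck, List.all_eq_true, List.mem_range, Bool.and_eq_true, CosetTable.beq_iff] at h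
  obtain ⟨⟨⟨⟨⟨h0, h1⟩, h2⟩, h3⟩, h4⟩, h5⟩ := h
  refine ⟨(toMat_mul h2).trans toMat_one, (toMat_mul h1).trans toMat_one, ?_, toMat_mul h4, toMat_mul h5⟩
  intro k
  induction k with
  | zero => intro _; rw [pow_zero, h0, toMat_one]
  | succ k ih => intro hk; rw [pow_succ, ih (by omega), toMat_mul (h3 k (by omega))]

/-- The scalar of order six. -/
def smat : GL7 := ⟨toMat (scalMats.getD 1 0), toMat (scalMats.getD 5 0), scal_spec.1, scal_spec.2.1⟩

theorem smat_scalar : toMat (scalMats.getD 1 0) = Matrix.scalar (Fin 12) (3 : ZMod 7) := by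
  have h : ∀ i j : Fin 12, (ent (scalMats.getD 1 0) i j : ZMod 7) = if i = j then 3 else 0 := by
    decide +kernel
  ext i j
  simp only [toMat, Matrix.of_apply, Matrix.scalar_apply, Matrix.diagonal_apply]
  exact h i j

theorem smat_comm (u : GL7) : Commute smat u := by
  refine Units.ext ?_
  show toMat (scalMats.getD 1 0) * (u : Mat) = (u : Mat) * toMat (scalMats.getD 1 0)
  rw [smat_scalar]
  exact ((Matrix.scalar_commute (3 : ZMod 7) (fun r => Commute.all _ r) (u : Mat))).eq

theorem smat_pow (k : ℕ) : ((smat ^ k : GL7) : Mat) = Matrix.scalar (Fin 12) ((3 : ZMod 7) ^ k) := by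
  rw [Units.val_pow_eq_pow_val, map_pow]
  exact congrArg (· ^ k) smat_scalar

theorem smat_order : smat ^ 6 = 1 ∧ smat ^ 2 ≠ 1 ∧ smat ^ 3 ≠ 1 := by
  refine ⟨Units.ext ?_, fun h => ?_, fun h => ?_⟩
  · rw [smat_pow, show (3 : ZMod 7) ^ 6 = 1 by decide, map_one, Units.val_one]
  · have e : (((smat ^ 2 : GL7) : Mat) 0 0) = 1 := by rw [h]; simp
    rw [smat_pow] at e
    simp only [Matrix.scalar_apply, Matrix.diagonal_apply_eq] at e
    revert e
    decide
  · have e : (((smat ^ 3 : GL7) : Mat) 0 0) = 1 := by rw [h]; simp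
    rw [smat_pow] at e
    simp only [Matrix.scalar_apply, Matrix.diagonal_apply_eq] at e
    revert e
    decide

/-- The product along a word. -/
def ev {M : Type*} [Monoid M] (y : SNode → M) (l : List SNode) : M := (l.map y).prod

theorem map_ev {M N : Type*} [Monoid M] [Monoid N] (f : M →* N) (y : SNode → M) (l : List SNode) :
    f (ev y l) = ev (fun x => f (y x)) l := by
  simp [ev, map_list_prod, List.map_map, Function.comp_def]

theorem ev_value {l : List SNode} {e : ℕ} {cs : List ℕ}
    (h : (l.map num, e, cs) ∈ wordData) : ev gmat l = smat ^ e := by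
  have h' := allL_spec wordCheck_ok _ h
  simp only [Bool.and_eq_true, CosetTable.blt_iff] at h'
  refine Units.ext ?_
  have e2 := chainOK_spec h'.2
  rw [toMat_one, one_mul, ← scal_spec.2.2.1 e h'.1, List.map_map] at e2
  rw [Units.val_pow_eq_pow_val]
  refine Eq.trans ?_ e2
  show (Units.coeHom Mat) (ev gmat l) = _
  rw [map_ev]
  rfl

/-- The relator word of a pair. -/
def pairWord (x z : SNode) : List SNode :=
  (List.replicate (Spor.coxLabel Spor.Suz.edges x z) [x, z]).flatten

/-- The remaining words. -/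
def extraWords : List (List SNode) :=
  [[.a] ++ (List.replicate 4 [.c, .d]).flatten, [.a] ++ (List.replicate 2 [.f, .g]).flatten,
   (List.replicate 5 [.a, .b, .c, .f]).flatten, (List.replicate 5 [.b, .f, .g]).flatten,
   (List.replicate 3 ((List.replicate 5 [.b, .c, .d, .c, .d]).flatten ++ [.e])).flatten]

/-- The positions in the data. -/
noncomputable def indexCheck : Bool :=
  (allNodes.all fun x => allNodes.all fun z =>
    CosetTable.eqL (wordData.getD (7 * num x + num z) ([], 0, [])).1 ((pairWord x z).map num) &&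
      Nat.blt (7 * num x + num z) wordData.length) &&
  (List.range 5).all (fun k =>
    CosetTable.eqL (wordData.getD (49 + k) ([], 0, [])).1 ((extraWords.getD k []).map num)) &&
  Nat.beq wordData.length 54 && Nat.beq (wordData.getD 8 ([], 0, [])).2.1 0 &&
  Nat.beq (wordData.getD 24 ([], 0, [])).2.1 3 && Nat.beq (wordData.getD 32 ([], 0, [])).2.1 3 &&
  Nat.beq (wordData.getD 40 ([], 0, [])).2.1 0 && Nat.beq (wordData.getD 48 ([], 0, [])).2.1 0 &&
  Nat.beq (wordData.getD 16 ([], 0, [])).2.1 0 &&
  Nat.beq (wordData.getD 52 ([], 0, [])).2.1 4 && Nat.beq (wordData.getD 53 ([], 0, [])).2.1 3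

theorem indexCheck_ok : indexCheck = true := by decide +kernel

theorem getD_mem {α : Type*} (l : List α) (d : α) {i : ℕ} (h : i < l.length) : l.getD i d ∈ l := by
  rw [List.getD_eq_getElem _ _ h]
  exact List.getElem_mem h

theorem pair_value (x z : SNode) : ∃ e, e = (wordData.getD (7 * num x + num z) ([], 0, [])).2.1 ∧
    ev gmat (pairWord x z) = smat ^ e := by
  have h := indexCheck_ok
  simp only [indexCheck, Bool.and_eq_true, List.all_eq_true] at h
  have h1 := h.1.1.1.1.1.1.1.1.1.1 x (allNodes_mem x) z (allNodes_mem z)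
  refine ⟨_, rfl, ev_value (cs := (wordData.getD (7 * num x + num z) ([], 0, [])).2.2) ?_⟩
  rw [← CosetTable.eq_of_eqL h1.1]
  exact getD_mem _ _ (CosetTable.blt_iff.1 h1.2)

theorem extra_value (k : ℕ) (hk : k < 5) : ∃ e, e = (wordData.getD (49 + k) ([], 0, [])).2.1 ∧
    ev gmat (extraWords.getD k []) = smat ^ e := by
  have h := indexCheck_ok
  simp only [indexCheck, Bool.and_eq_true, List.all_eq_true, List.mem_range, CosetTable.beq_iff] at h
  refine ⟨_, rfl, ev_value (cs := (wordData.getD (49 + k) ([], 0, [])).2.2) ?_⟩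
  rw [← CosetTable.eq_of_eqL (h.1.1.1.1.1.1.1.1.1.2 k hk)]
  exact getD_mem _ _ (by rw [h.1.1.1.1.1.1.1.1.2]; omega)

theorem values : ev gmat [.b, .b] = 1 ∧ ev gmat [.d, .d] = smat ^ 3 ∧ ev gmat [.e, .e] = smat ^ 3 ∧
    ev gmat [.f, .f] = 1 ∧ ev gmat [.g, .g] = 1 ∧ ev gmat [.c, .c] = 1 ∧
    ev gmat (extraWords.getD 3 []) = smat ^ 4 ∧ ev gmat (extraWords.getD 4 []) = smat ^ 3 := by
  have h := indexCheck_ok
  simp only [indexCheck, Bool.and_eq_true, CosetTable.beq_iff] at h
  obtain ⟨⟨⟨⟨⟨⟨⟨⟨_, hb⟩, hd⟩, he⟩, hf⟩, hg⟩, hc⟩, h3⟩, h4⟩ := h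
  have sq : ∀ x : SNode, pairWord x x = [x, x] := fun x => by cases x <;> decide
  have key : ∀ (x : SNode) (v : ℕ), (wordData.getD (7 * num x + num x) ([], 0, [])).2.1 = v →
      ev gmat [x, x] = smat ^ v := by
    intro x v hv
    obtain ⟨e, he, h⟩ := pair_value x x
    rw [← sq x, h, he, hv]
  refine ⟨by rw [key .b 0 hb, pow_zero], key .d 3 hd, key .e 3 he, by rw [key .f 0 hf, pow_zero],
    by rw [key .g 0 hg, pow_zero], by rw [key .c 0 hc, pow_zero], ?_, ?_⟩
  · obtain ⟨e, he, h⟩ := extra_value 3 (by norm_num); rw [h, he, h3]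
  · obtain ⟨e, he, h⟩ := extra_value 4 (by norm_num); rw [h, he, h4]

theorem ev_append {M : Type*} [Monoid M] (y : SNode → M) (l m : List SNode) :
    ev y (l ++ m) = ev y l * ev y m := by simp [ev]

theorem ev_replicate {M : Type*} [Monoid M] (y : SNode → M) (l : List SNode) : ∀ n : ℕ,
    ev y (List.replicate n l).flatten = ev y l ^ n
  | 0 => by simp [ev]
  | n + 1 => by
    rw [List.replicate_succ, List.flatten_cons, ev_append, ev_replicate y l n, pow_succ']

theorem orderOf_eq_six {M : Type*} [Monoid M] {x : M} (h6 : x ^ 6 = 1) (h2 : x ^ 2 ≠ 1)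
    (h3 : x ^ 3 ≠ 1) : orderOf x = 6 := by
  have hd : orderOf x ∣ 6 := orderOf_dvd_of_pow_eq_one h6
  have h2' : ¬ orderOf x ∣ 2 := fun h => h2 (orderOf_dvd_iff_pow_eq_one.1 h)
  have h3' : ¬ orderOf x ∣ 3 := fun h => h3 (orderOf_dvd_iff_pow_eq_one.1 h)
  have hle := Nat.le_of_dvd (by norm_num) hd
  interval_cases h : orderOf x <;> omega

/-- The values force the scalar into the derived group. -/
theorem scalar_arith {A : Type*} [CommGroup A] {u b c d e f g : A}
    (hb : b * b = 1) (hd : d * d = u ^ 3) (he : e * e = u ^ 3) (hf : f * f = 1) (hg : g * g = 1)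
    (hc : c * c = 1) (hu : u ^ 6 = 1) (h4 : (b * (f * g)) ^ 5 = u ^ 4)
    (h5 : ((b * (c * (d * (c * d)))) ^ 5 * e) ^ 3 = u ^ 3) : u = 1 := by
  have q : (b * (f * g)) ^ 2 = 1 := by
    rw [pow_two, mul_mul_mul_comm, mul_mul_mul_comm f g f g, hb, hf, hg, one_mul, one_mul]
  have e8 : u ^ 2 = 1 := by
    have : u ^ 8 = 1 := by
      rw [show 8 = 4 * 2 from rfl, pow_mul, ← h4, ← pow_mul, show 5 * 2 = 2 * 5 from rfl, pow_mul, q,
        one_pow]
    rwa [show 8 = 6 + 2 from rfl, pow_add, hu, one_mul] at this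
  have u3 : u ^ 3 = u := by rw [pow_succ, e8, one_mul]
  rw [u3] at hd he h5
  have hm : b * (c * (d * (c * d))) = b * u := by
    calc b * (c * (d * (c * d))) = b * ((c * c) * (d * d)) := by
          rw [mul_mul_mul_comm c c d d]; simp only [mul_assoc, mul_left_comm, mul_comm]
      _ = b * u := by rw [hc, hd, one_mul]
  have bu : (b * u) ^ 5 = b * u := by
    have : (b * u) ^ 2 = 1 := by rw [mul_pow, pow_two b, hb, e8, one_mul]
    rw [show 5 = 2 * 2 + 1 from rfl, pow_succ, pow_mul, this, one_pow, one_mul]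
  rw [hm, bu, mul_pow] at h5
  have bu3 : (b * u) ^ 3 = b * u := by
    have : (b * u) ^ 2 = 1 := by rw [mul_pow, pow_two b, hb, e8, one_mul]
    rw [pow_succ, this, one_mul]
  have e3 : e ^ 3 = u * e := by rw [pow_succ, pow_two, he]
  rw [bu3, e3] at h5
  -- `b * e = u`, hence `u = (b * e) ^ 2 = u ^ 2`
  have h6 : b * e = u := by
    calc b * e = b * (u * u) * e := by rw [← pow_two, e8, mul_one]
      _ = b * u * (u * e) := by simp only [mul_assoc]
      _ = u := h5
  calc u = (b * b) * (e * e) := by rw [hb, he, one_mul]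
    _ = (b * e) * (b * e) := mul_mul_mul_comm b b e e
    _ = 1 := by rw [h6, ← pow_two, e8]

set_option maxHeartbeats 1000000 in
/-- A stem extension of Suz with cyclic kernel of order six. -/
theorem exists_six_cover : ∃ (X : Type) (_ : Group X) (_ : Finite X) (σ : X →* Spor.Suz),
    IsStemExtension σ ∧ Nat.card σ.ker = 6 ∧ IsCyclic σ.ker := by
  haveI : IsSimpleGroup Spor.Suz := S1694.result.1
  haveI : Finite GL7 := inferInstance
  let X : Subgroup GL7 := Subgroup.closure (Set.range gmat)
  let g : SNode → X := fun x => ⟨gmat x, Subgroup.subset_closure ⟨x, rfl⟩⟩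
  have hev : ∀ l, ((ev g l : X) : GL7) = ev gmat l := fun l => map_ev X.subtype g l
  obtain ⟨vb, vd, ve, vf, vg, vc, v4, v5⟩ := values
  obtain ⟨hs6, hs2, hs3⟩ := smat_order
  have hsX : smat ∈ X := by
    have h : smat = ev gmat (extraWords.getD 3 []) * ev gmat [.d, .d] := by
      rw [v4, vd, ← pow_add, show 4 + 3 = 6 + 1 from rfl, pow_succ, hs6, one_mul]
    rw [h, ← hev, ← hev]
    exact mul_mem (ev g _).2 (ev g _).2
  let t : X := ⟨smat, hsX⟩
  have htc : ∀ a : X, Commute t a := fun a => Subtype.ext (smat_comm (a : GL7)).eq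
  set N := Subgroup.zpowers t with hN
  haveI : N.Normal := ⟨fun m hm a => by
    obtain ⟨j, rfl⟩ := Subgroup.mem_zpowers_iff.1 hm
    rw [← ((htc a).zpow_left j).eq, mul_inv_cancel_right]
    exact hm⟩
  set q := QuotientGroup.mk' N with hq
  have hval : ∀ (l : List SNode) (e : ℕ), ev gmat l = smat ^ e → q (ev g l) = 1 := fun l e h =>
    (QuotientGroup.eq_one_iff _).2 (by
      have : ev g l = t ^ e := Subtype.ext (by rw [hev, h, Subgroup.coe_pow])
      rw [this]
      exact pow_mem (Subgroup.mem_zpowers t) e)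
  have hev1 : ∀ l, FreeGroup.lift (fun x => q (g x)) (ev FreeGroup.of l) = q (ev g l) := fun l => by
    rw [map_ev, map_ev]
    simp
  have hsq : ∀ x, q (g x) * q (g x) = 1 := fun x => by
    obtain ⟨e, -, h⟩ := pair_value x x
    rw [show pairWord x x = [x, x] by cases x <;> decide] at h
    simpa [ev] using hval [x, x] e h
  have hrel : ∀ r ∈ Spor.coxRelators Spor.Suz.edges ∪ {r | r ∈ Spor.Suz.extra},
      FreeGroup.lift (fun x => q (g x)) r = 1 := by
    rintro r (⟨x, -, z, -, rfl⟩ | hm)
    · obtain ⟨e, -, h⟩ := pair_value x z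
      have h' := hval _ e h
      rw [← hev1, pairWord, ev_replicate] at h'
      simpa [ev] using h'
    · have hx : ∀ k, k < 5 → FreeGroup.lift (fun x => q (g x)) (ev FreeGroup.of (extraWords.getD k [])) = 1 :=
        fun k hk => by
          obtain ⟨e, -, h⟩ := extra_value k hk
          rw [hev1]
          exact hval _ e h
      have flip : ∀ (w : FreeGroup SNode),
          FreeGroup.lift (fun x => q (g x)) (Spor.Suz.a * w) = 1 →
          FreeGroup.lift (fun x => q (g x)) (Spor.Suz.a * w⁻¹) = 1 := fun w hw => by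
        simp only [map_mul, map_inv, FreeGroup.lift_apply_of] at hw ⊢
        rw [mul_inv_eq_one]
        exact (mul_left_cancel ((hsq .a).trans hw.symm))
      simp only [Spor.Suz.extra, Set.mem_setOf_eq, List.mem_cons, List.not_mem_nil, or_false] at hm
      rcases hm with rfl | rfl | rfl | rfl | rfl
      · exact flip _ (by simpa [extraWords, ev, List.replicate_succ, pow_succ, mul_assoc] using hx 0 (by norm_num))
      · exact flip _ (by simpa [extraWords, ev, List.replicate_succ, pow_succ, mul_assoc] using hx 1 (by norm_num))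
      · simpa [extraWords, ev, List.replicate_succ, pow_succ, mul_assoc] using hx 2 (by norm_num)
      · simpa [extraWords, ev, List.replicate_succ, pow_succ, mul_assoc] using hx 3 (by norm_num)
      · simpa [extraWords, ev, List.replicate_succ, pow_succ, mul_assoc] using hx 4 (by norm_num)
  let φ : Spor.Suz →* X ⧸ N := PresentedGroup.toGroup hrel
  have hgen : Subgroup.closure (Set.range g) = ⊤ := by
    refine Subgroup.map_injective X.subtype_injective ?_
    rw [MonoidHom.map_closure, ← MonoidHom.range_eq_map, Subgroup.range_subtype]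
    show Subgroup.closure _ = Subgroup.closure _
    congr 1
    rw [← Set.range_comp]
    rfl
  have hsurj : Function.Surjective φ := by
    rw [← MonoidHom.range_eq_top, eq_top_iff,
      ← Subgroup.map_top_of_surjective q (QuotientGroup.mk'_surjective N), ← hgen,
      MonoidHom.map_closure, Subgroup.closure_le]
    rintro _ ⟨_, ⟨x, rfl⟩, rfl⟩
    exact ⟨PresentedGroup.of x, PresentedGroup.toGroup.of hrel⟩
  have hinj : Function.Injective φ := by
    rcases IsSimpleGroup.eq_bot_or_eq_top_of_normal φ.ker inferInstance with h | h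
    · exact (MonoidHom.ker_eq_bot_iff φ).1 h
    · exfalso
      obtain ⟨b, hb⟩ := hsurj (q (g .a))
      rw [MonoidHom.mem_ker.1 (h ▸ Subgroup.mem_top b : b ∈ φ.ker)] at hb
      obtain ⟨i, hi⟩ := Subgroup.mem_zpowers_iff.1 ((QuotientGroup.eq_one_iff (g .a)).1 hb.symm)
      have hc : g .a * g .b = g .b * g .a := by
        rw [← hi]
        exact ((htc (g .b)).zpow_left i).eq
      have hm : toMat pairCodes.1 = toMat pairCodes.2 := by
        rw [← scal_spec.2.2.2.1, ← scal_spec.2.2.2.2]
        exact congrArg (fun u : X => ((u : GL7) : Mat)) hc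
      have : toMat pairCodes.1 ≠ toMat pairCodes.2 := by decide +kernel
      exact this hm
  let e : Spor.Suz ≃* X ⧸ N := MulEquiv.ofBijective φ ⟨hinj, hsurj⟩
  let σ : X →* Spor.Suz := e.symm.toMonoidHom.comp q
  have hker : σ.ker = N := by
    rw [MonoidHom.ker_comp_of_injective q _ e.symm.injective]
    exact QuotientGroup.ker_mk' N
  have ht6 : t ^ 6 = 1 := Subtype.ext hs6
  have hord : orderOf t = 6 := orderOf_eq_six ht6 (fun h => hs2 (congrArg Subtype.val h))
    fun h => hs3 (congrArg Subtype.val h)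
  have htd : t ∈ commutator X := by
    rw [← Abelianization.ker_of X, MonoidHom.mem_ker]
    have hv : ∀ (l : List SNode) (e : ℕ), ev gmat l = smat ^ e →
        ev (fun x => Abelianization.of (g x)) l = Abelianization.of t ^ e := fun l e h => by
      rw [← map_ev, show ev g l = t ^ e from Subtype.ext (by rw [hev, h, Subgroup.coe_pow]), map_pow]
    refine scalar_arith (b := Abelianization.of (g .b)) (c := Abelianization.of (g .c))
      (d := Abelianization.of (g .d)) (e := Abelianization.of (g .e))
      (f := Abelianization.of (g .f)) (g := Abelianization.of (g .g)) ?_ ?_ ?_ ?_ ?_ ?_ ?_ ?_ ?_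
    · simpa [ev] using hv [.b, .b] 0 (by rw [vb, pow_zero])
    · simpa [ev] using hv [.d, .d] 3 vd
    · simpa [ev] using hv [.e, .e] 3 ve
    · simpa [ev] using hv [.f, .f] 0 (by rw [vf, pow_zero])
    · simpa [ev] using hv [.g, .g] 0 (by rw [vg, pow_zero])
    · simpa [ev] using hv [.c, .c] 0 (by rw [vc, pow_zero])
    · rw [← map_pow, ht6, map_one]
    · have h := hv _ 4 v4
      rw [show extraWords.getD 3 [] = (List.replicate 5 [.b, .f, .g]).flatten from rfl, ev_replicate] at h
      simpa [ev] using h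
    · have h := hv _ 3 v5
      rw [show extraWords.getD 4 [] =
        (List.replicate 3 ((List.replicate 5 [.b, .c, .d, .c, .d]).flatten ++ [.e])).flatten from rfl,
        ev_replicate, ev_append, ev_replicate] at h
      simpa [ev] using h
  refine ⟨X, inferInstance, inferInstance, σ,
    ⟨e.symm.surjective.comp (QuotientGroup.mk'_surjective N), ?_, ?_⟩, ?_, ?_⟩
  · rw [hker, hN, Subgroup.zpowers_le]
    exact Subgroup.mem_center_iff.2 fun a => (htc a).eq.symm
  · rw [hker, hN, Subgroup.zpowers_le]
    exact htd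
  · rw [hker, hN, Nat.card_zpowers, hord]
  · rw [hker]; infer_instance

end Cfsg.Agent.Lib.SuzMult
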