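import Mathlib
import Cfsg.Agent.Lib.CosetTable.Sound

/-!
Checked 12 by 12 matrices over seven elements coded with three bits per entry.
-/

set_option autoImplicit false

namespace Cfsg.Agent.Lib.SuzMult

open Cfsg.Agent.Lib.CosetTable (force force_eq rangeAll rangeAll_spec beq_iff)

/-- The matrices in question. -/
abbrev Mat : Type := Matrix (Fin 12) (Fin 12) (ZMod 7)

/-- An entry of a coded matrix. -/
def ent (a i j : ℕ) : ℕ := Nat.land (Nat.shiftRight a (3 * (12 * i + j))) 7

/-- The coded matrix. -/
def toMat (a : ℕ) : Mat := Matrix.of fun i j => (ent a i j : ZMod 7)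

/-- Row times column, the first `k` terms. -/
def dotUp (a b i j : ℕ) : ℕ → ℕ
  | 0 => 0
  | k + 1 => dotUp a b i j k + ent a i k * ent b k j

/-- `c` codes the product of `a` and `b`. -/
noncomputable def mulOK (a b c : ℕ) : Bool :=
  force a fun a => force b fun b => force c fun c =>
    rangeAll (fun i => rangeAll (fun j => Nat.beq (dotUp a b i j 12 % 7) (ent c i j % 7)) 12 0) 12 0

theorem cast_dotUp (a b i j : ℕ) : ∀ k, ((dotUp a b i j k : ℕ) : ZMod 7) =
    ∑ l ∈ Finset.range k, (ent a i l : ZMod 7) * (ent b l j : ZMod 7)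
  | 0 => by simp [dotUp]
  | k + 1 => by rw [dotUp, Nat.cast_add, Nat.cast_mul, Finset.sum_range_succ, cast_dotUp a b i j k]

theorem toMat_mul {a b c : ℕ} (h : mulOK a b c = true) : toMat a * toMat b = toMat c := by
  simp only [mulOK, force_eq] at h
  ext i j
  have hi := rangeAll_spec h i (Nat.zero_le _) (by have := i.isLt; omega)
  have hj := beq_iff.mp (rangeAll_spec hi j (Nat.zero_le _) (by have := j.isLt; omega))
  have e : ((dotUp a b i j 12 : ℕ) : ZMod 7) = ((ent c i j : ℕ) : ZMod 7) :=
    (ZMod.natCast_eq_natCast_iff' _ _ _).mpr hj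
  simp only [toMat, Matrix.mul_apply, Matrix.of_apply]
  rw [← e, cast_dotUp, Fin.sum_univ_eq_sum_range fun l => (ent a i l : ZMod 7) * (ent b l j : ZMod 7)]

/-- Running products along a word, ending with the target. -/
noncomputable def chainOK (ms : List ℕ) : List ℕ → List ℕ → ℕ → ℕ → Bool
  | [], [], cur, tgt => Nat.beq cur tgt
  | g :: w, c :: cs, cur, tgt => mulOK cur (ms.getD g 0) c && chainOK ms w cs c tgt
  | _, _, _, _ => false

theorem chainOK_spec {ms : List ℕ} : ∀ {w cs : List ℕ} {cur tgt : ℕ}, chainOK ms w cs cur tgt = true →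
    toMat cur * (w.map fun g => toMat (ms.getD g 0)).prod = toMat tgt
  | [], [], cur, tgt, h => by
    simp only [chainOK, beq_iff] at h
    simp [h]
  | g :: w, c :: cs, cur, tgt, h => by
    simp only [chainOK, Bool.and_eq_true] at h
    rw [List.map_cons, List.prod_cons, ← mul_assoc, toMat_mul h.1]
    exact chainOK_spec h.2
  | [], _ :: _, _, _, h => by simp [chainOK] at h
  | _ :: _, [], _, _, h => by simp [chainOK] at h

end Cfsg.Agent.Lib.SuzMult
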